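import Mathlib

/-! Generic forms of given degrees cut out a nonsingular complete intersection: the parameter count. -/

set_option autoImplicit false
universe u v w

namespace Groth.CIntGen

open MvPolynomial

variable {n r : ℕ}

/-- The coefficient indices of `r` forms of degrees `d` in `n + 1` variables. -/
abbrev Cf (n : ℕ) {r : ℕ} (d : Fin r → ℕ) : Type :=
  Σ i : Fin r, ↥((Finset.univ : Finset (Fin (n + 1))).finsuppAntidiag (d i))

variable {d : Fin r → ℕ}

theorem Cf.sum_eq (t : Cf n d) : ∑ l, t.2.1 l = d t.1 :=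
  (Finset.mem_finsuppAntidiag.1 t.2.2).1

/-- An exponent of degree `d i`, as an index. -/
def Cf.mk' (i : Fin r) (e : Fin (n + 1) →₀ ℕ) (he : ∑ l, e l = d i) : Cf n d :=
  ⟨i, ⟨e, Finset.mem_finsuppAntidiag.2 ⟨he, Finset.subset_univ _⟩⟩⟩

/-- The forms with given coefficients. -/
noncomputable def form {R : Type u} [CommRing R] (c : Cf n d → R) (i : Fin r) :
    MvPolynomial (Fin (n + 1)) R :=
  ∑ e, monomial (e : ↥((Finset.univ : Finset (Fin (n + 1))).finsuppAntidiag (d i))).1 (c ⟨i, e⟩)

theorem form_map {R S : Type*} [CommRing R] [CommRing S] (φ : R →+* S) (c : Cf n d → R) (i : Fin r) :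
    map φ (form c i) = form (φ ∘ c) i := by
  simp [form, map_monomial]

theorem form_isHomogeneous {R : Type u} [CommRing R] (c : Cf n d → R) (i : Fin r) :
    (form c i).IsHomogeneous (d i) := by
  refine IsHomogeneous.sum _ _ _ fun e _ => isHomogeneous_monomial _ ?_
  rw [Finsupp.degree_eq_sum]
  exact Cf.sum_eq ⟨i, e⟩

/-- No singular zero of the system. -/
def NoBad {L : Type u} [CommRing L] (c : Cf n d → L) : Prop :=
  ∀ (x : Fin (n + 1) → L) (l : Fin r → L), (∀ i, eval x (form c i) = 0) →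
    (∀ j, ∑ i, l i * eval x (pderiv j (form c i)) = 0) → x = 0 ∨ l = 0

/-- The monomial function. -/
noncomputable def mon {L : Type u} [CommRing L] (x : Fin (n + 1) → L) (e : Fin (n + 1) →₀ ℕ) : L := ∏ l, x l ^ e l

/-- Its partial derivative. -/
noncomputable def dmon {L : Type u} [CommRing L] (x : Fin (n + 1) → L) (j : Fin (n + 1)) (e : Fin (n + 1) →₀ ℕ) : L :=
  (e j : L) * mon x (e - Finsupp.single j 1)

theorem eval_monomial_mon {L : Type u} [CommRing L] (x : Fin (n + 1) → L) (e : Fin (n + 1) →₀ ℕ) (a : L) :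
    eval x (monomial e a) = a * mon x e := by
  rw [eval_monomial, mon, Finsupp.prod_fintype _ _ (fun _ => pow_zero _)]

theorem eval_form {L : Type u} [CommRing L] (x : Fin (n + 1) → L) (c : Cf n d → L) (i : Fin r) :
    eval x (form c i) = ∑ e, c ⟨i, e⟩ * mon x e.1 := by
  simp [form, map_sum, eval_monomial_mon]

theorem eval_pderiv_form {L : Type u} [CommRing L] (x : Fin (n + 1) → L) (c : Cf n d → L) (i : Fin r)
    (j : Fin (n + 1)) : eval x (pderiv j (form c i)) = ∑ e, c ⟨i, e⟩ * dmon x j e.1 := by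
  simp [form, map_sum, pderiv_monomial, eval_monomial_mon, dmon, mul_assoc]

theorem mon_smul {L : Type u} [CommRing L] (a : L) (x : Fin (n + 1) → L) (e : Fin (n + 1) →₀ ℕ) :
    mon (fun l => a * x l) e = a ^ (∑ l, e l) * mon x e := by
  simp [mon, mul_pow, Finset.prod_mul_distrib, Finset.prod_pow_eq_pow_sum]

theorem dmon_smul {L : Type u} [CommRing L] (a : L) (x : Fin (n + 1) → L) (j : Fin (n + 1))
    (e : Fin (n + 1) →₀ ℕ) : dmon (fun l => a * x l) j e = a ^ (∑ l, e l - 1) * dmon x j e := by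
  rcases Nat.eq_zero_or_pos (e j) with h | h
  · simp [dmon, h]
  · have hsum : ∑ l, (e - Finsupp.single j 1 : Fin (n + 1) →₀ ℕ) l = ∑ l, e l - 1 := by
      have : ∑ l, e l = ∑ l, (e - Finsupp.single j 1 : Fin (n + 1) →₀ ℕ) l + 1 := by
        conv_lhs => rw [← Finsupp.sub_add_single_one_cancel h.ne']
        simp [Finset.sum_add_distrib, Finsupp.single_apply]
      omega
    simp only [dmon, mon_smul, hsum]
    ring

theorem mon_single {L : Type u} [CommRing L] (x : Fin (n + 1) → L) (a : Fin (n + 1)) (b : ℕ) :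
    mon x (Finsupp.single a b) = x a ^ b := by
  rw [mon, Finset.prod_eq_single a]
  · rw [Finsupp.single_eq_same]
  · intro c _ hc
    rw [Finsupp.single_eq_of_ne hc, pow_zero]
  · simp

theorem sum_single (a : Fin (n + 1)) (b : ℕ) : ∑ l, Finsupp.single a b l = b := by
  simp [Finsupp.single_apply]

section Count

variable {k : Type u} [Field k] {L : Type v} [Field L] [Algebra k L]

/-- The parameter count: algebraically independent coefficients have no normalised singular zero. -/
theorem count (c : Cf n d → L) (hc : AlgebraicIndependent k c) (hd : ∀ i, 0 < d i)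
    (x : Fin (n + 1) → L) (l : Fin r → L) (j0 : Fin (n + 1)) (i0 : Fin r) (hx : x j0 = 1) (hl : l i0 = 1)
    (hf : ∀ i, eval x (form c i) = 0) (hg : ∀ j, ∑ i, l i * eval x (pderiv j (form c i)) = 0) : False := by
  classical
  let e0 : ∀ i : Fin r, Cf n d := fun i => Cf.mk' i (Finsupp.single j0 (d i)) (by simp [Finsupp.single_apply])
  let e1 : {j // j ≠ j0} → Cf n d := fun j => Cf.mk' i0 (Finsupp.single j0 (d i0 - 1) + Finsupp.single j.1 1) (by
    have := hd i0
    simp only [Finsupp.coe_add, Pi.add_apply, Finset.sum_add_distrib, sum_single]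
    omega)
  let piv : Fin r ⊕ {j // j ≠ j0} → Cf n d := Sum.elim e0 e1
  have hpinj : Function.Injective piv := by
    have he1 : ∀ j, (e1 j).2.1 j.1 = 1 := fun j => by simp [e1, Cf.mk', j.2, Ne.symm j.2]
    rintro (i | j) (i' | j') h <;> simp only [piv, Sum.elim_inl, Sum.elim_inr] at h
    · exact congrArg Sum.inl (congrArg Sigma.fst h)
    · exfalso
      have h2 := congrArg (fun t : Cf n d => t.2.1 j'.1) h
      simp only [he1] at h2
      simp [e0, Cf.mk', Ne.symm j'.2] at h2
    · exfalso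
      have h2 := congrArg (fun t : Cf n d => t.2.1 j.1) h
      simp only [he1] at h2
      simp [e0, Cf.mk', Ne.symm j.2] at h2
    · by_contra hne
      have hne' : j.1 ≠ j'.1 := fun h' => hne (congrArg Sum.inr (Subtype.ext h'))
      have h2 := congrArg (fun t : Cf n d => t.2.1 j.1) h
      simp only [he1] at h2
      simp [e1, Cf.mk', Ne.symm j.2, Ne.symm hne'] at h2
  let g : {j // j ≠ j0} ⊕ {i // i ≠ i0} ⊕ {t // t ∉ Set.range piv} → L :=
    Sum.elim (fun j => x j.1) (Sum.elim (fun i => l i.1) (fun t => c t.1))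
  let A : Subalgebra k L := (aeval (R := k) g).range
  have hgA : ∀ w, g w ∈ A := fun w => ⟨X w, aeval_X g w⟩
  have hxA : ∀ j, x j ∈ A := fun j => by
    rcases eq_or_ne j j0 with rfl | h
    · rw [hx]; exact one_mem A
    · exact hgA (.inl ⟨j, h⟩)
  have hlA : ∀ i, l i ∈ A := fun i => by
    rcases eq_or_ne i i0 with rfl | h
    · rw [hl]; exact one_mem A
    · exact hgA (.inr (.inl ⟨i, h⟩))
  have hmA : ∀ e, mon x e ∈ A := fun e => Subalgebra.prod_mem A fun j _ => pow_mem (hxA j) _
  have hdA : ∀ j e, dmon x j e ∈ A := fun j e => mul_mem (natCast_mem A _) (hmA _)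
  have hnp : ∀ t, t ∉ Set.range piv → c t ∈ A := fun t ht => hgA (.inr (.inr ⟨t, ht⟩))
  -- the derivative equations give the pivots `e1`
  have h1 : ∀ j : {j // j ≠ j0}, c (e1 j) ∈ A := fun j => by
    have h := hg j.1
    simp only [eval_pderiv_form, Finset.mul_sum] at h
    rw [← Fintype.sum_sigma (fun t : Cf n d => l t.1 * (c t * dmon x j.1 t.2.1))] at h
    rw [Fintype.sum_eq_add_sum_compl (e1 j)] at h
    have hs : dmon x j.1 (e1 j).2.1 = 1 := by
      simp only [e1, Cf.mk', dmon, add_tsub_cancel_right, mon_single, hx, one_pow]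
      simp [Ne.symm j.2]
    rw [hs, show l (e1 j).1 = 1 from hl, one_mul, mul_one, add_eq_zero_iff_eq_neg] at h
    rw [h]
    refine neg_mem (Subalgebra.sum_mem A fun t ht => ?_)
    refine mul_mem (hlA _) ?_
    by_cases hp : t ∈ Set.range piv
    · suffices dmon x j.1 t.2.1 = 0 by rw [this, mul_zero]; exact zero_mem A
      obtain ⟨i | j', rfl⟩ := hp
      · simp [piv, e0, Cf.mk', dmon, Ne.symm j.2]
      · have hne : j'.1 ≠ j.1 := fun h' => by
          obtain rfl := Subtype.ext h'
          simp [piv] at ht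
        simp [piv, e1, Cf.mk', dmon, Ne.symm j.2, Ne.symm hne]
    · exact mul_mem (hnp t hp) (hdA _ _)
  have h0 : ∀ i, c (e0 i) ∈ A := fun i => by
    have h := hf i
    let t0 : ↥((Finset.univ : Finset (Fin (n + 1))).finsuppAntidiag (d i)) := (e0 i).2
    rw [eval_form, ← Finset.add_sum_erase _ _ (Finset.mem_univ t0)] at h
    have hs : mon x t0.1 = 1 := by
      simp [t0, e0, Cf.mk', mon_single, hx]
    rw [hs, mul_one, add_eq_zero_iff_eq_neg] at h
    rw [show c (e0 i) = c ⟨i, t0⟩ from rfl, h]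
    refine neg_mem (Subalgebra.sum_mem A fun e he => mul_mem ?_ (hmA _))
    by_cases hp : (⟨i, e⟩ : Cf n d) ∈ Set.range piv
    · obtain ⟨i' | j, hij⟩ := hp
      · exfalso
        simp only [piv, Sum.elim_inl] at hij
        obtain rfl : i' = i := congrArg Sigma.fst hij
        exact (Finset.mem_erase.1 he).1 (eq_of_heq (Sigma.mk.inj_iff.1 hij).2).symm
      · simp only [piv, Sum.elim_inr] at hij
        exact hij ▸ h1 j
    · exact hnp _ hp
  have hall : ∀ t, c t ∈ A := fun t => by
    by_cases hp : t ∈ Set.range piv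
    · obtain ⟨i | j, rfl⟩ := hp
      · exact h0 i
      · exact h1 j
    · exact hnp t hp
  let c' : Cf n d → A := fun t => ⟨c t, hall t⟩
  have hc' : AlgebraicIndependent k c' := AlgebraicIndependent.of_comp A.val hc
  have hle := hc'.lift_cardinalMk_le_trdeg.trans (Cardinal.lift_le.2 (le_refl (Algebra.trdeg k A)))
  have hle2 := lift_trdeg_le_of_surjective _ (AlgHom.rangeRestrict_surjective (aeval (R := k) g))
  rw [MvPolynomial.trdeg_of_isDomain] at hle2
  simp only [Cardinal.mk_fintype, Cardinal.lift_natCast] at hle hle2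
  have hle3 : (Fintype.card (Cf n d) : Cardinal.{v}) ≤
      (Fintype.card ({j // j ≠ j0} ⊕ {i // i ≠ i0} ⊕ {t // t ∉ Set.range piv}) : Cardinal.{v}) := by
    refine le_trans ?_ (?_ : Algebra.trdeg k A ≤ _)
    · simpa using hle
    · rw [← Cardinal.lift_le.{u}]
      simpa using hle2
  rw [Nat.cast_le] at hle3
  have hsum : Fintype.card {t // t ∉ Set.range piv} + (r + Fintype.card {j : Fin (n + 1) // j ≠ j0}) =
      Fintype.card (Cf n d) := by
    have h3 : Fintype.card {t // t ∈ Set.range piv} = r + Fintype.card {j : Fin (n + 1) // j ≠ j0} := by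
      rw [Fintype.card_congr (Equiv.ofInjective piv hpinj).symm, Fintype.card_sum, Fintype.card_fin]
    have h4 := Fintype.card_subtype_compl (fun t => t ∈ Set.range piv)
    have h5 := Fintype.card_subtype_le (fun t => t ∈ Set.range piv)
    omega
  have hi : Fintype.card {i : Fin r // i ≠ i0} + 1 = r := by
    have := i0.2
    rw [Fintype.card_subtype_compl, Fintype.card_fin, Fintype.card_subtype_eq]
    omega
  rw [Fintype.card_sum, Fintype.card_sum] at hle3
  omega

theorem noBad_of_algebraicIndependent (c : Cf n d → L) (hc : AlgebraicIndependent k c) (hd : ∀ i, 0 < d i) :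
    NoBad c := by
  intro x l hf hg
  by_contra hne
  rw [not_or] at hne
  obtain ⟨j0, hj0⟩ := Function.ne_iff.1 hne.1
  obtain ⟨i0, hi0⟩ := Function.ne_iff.1 hne.2
  rw [Pi.zero_apply] at hj0 hi0
  set a := (x j0)⁻¹ with ha
  have ha0 : a ≠ 0 := inv_ne_zero hj0
  let b : L := (l i0 * (a ^ (d i0 - 1))⁻¹)⁻¹
  refine count c hc hd (fun j => a * x j) (fun i => b * (l i * (a ^ (d i - 1))⁻¹)) j0 i0
    (inv_mul_cancel₀ hj0) (inv_mul_cancel₀ (mul_ne_zero hi0 (inv_ne_zero (pow_ne_zero _ ha0)))) ?_ ?_
  · intro i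
    have h := hf i
    rw [eval_form] at h ⊢
    simp only [mon_smul, fun e => Cf.sum_eq (⟨i, e⟩ : Cf n d), ← mul_assoc, mul_comm (c _) (a ^ _)]
    simp only [mul_assoc, ← Finset.mul_sum, h, mul_zero]
  · intro j
    have h := hg j
    simp only [eval_pderiv_form] at h ⊢
    rw [← mul_zero b, ← h, Finset.mul_sum]
    refine Finset.sum_congr rfl fun i _ => ?_
    simp only [dmon_smul, fun e => Cf.sum_eq (⟨i, e⟩ : Cf n d), Finset.mul_sum]
    refine Finset.sum_congr rfl fun e _ => ?_
    field_simp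

end Count

/-- Reindexing of coefficient indices along a selection of the forms. -/
def emb {s : ℕ} (ι : Fin s → Fin r) (t : Cf n (d ∘ ι)) : Cf n d := ⟨ι t.1, t.2⟩

theorem emb_injective {s : ℕ} {ι : Fin s → Fin r} (hι : Function.Injective ι) :
    Function.Injective (emb (n := n) (d := d) ι) := by
  rintro ⟨i, e⟩ ⟨i', e'⟩ h
  obtain rfl := hι (congrArg Sigma.fst h)
  exact congrArg (Sigma.mk i) (eq_of_heq (Sigma.mk.inj_iff.1 h).2)

attribute [local instance] MvPolynomial.algebraMvPolynomial

theorem exists_ne_zero_noBad (k : Type u) [Field k] (hd : ∀ i, 0 < d i) {s : ℕ} (ι : Fin s → Fin r)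
    (hι : Function.Injective ι) :
    ∃ g : MvPolynomial (Cf n d) k, g ≠ 0 ∧ ∀ (L : Type u) [Field L] (φ : MvPolynomial (Cf n d) k →+* L),
      φ g ≠ 0 → NoBad (fun t => φ (X (emb (n := n) (d := d) ι t))) := by
  classical
  let P := MvPolynomial (Cf n d) k
  let Q := FractionRing P
  let K := AlgebraicClosure Q
  let c : Cf n (d ∘ ι) → P := fun t => X (emb ι t)
  let V := Fin (n + 1) ⊕ Fin s
  let Fp : Fin s → MvPolynomial V P := fun i => rename Sum.inl (form c i)
  let Gp : Fin (n + 1) → MvPolynomial V P := fun j =>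
    ∑ i, X (Sum.inr i) * rename Sum.inl (pderiv j (form c i))
  let I : Ideal (MvPolynomial V P) := Ideal.span (Set.range Fp ∪ Set.range Gp)
  have hev : ∀ {L : Type u} [CommRing L] (φ : P →+* L) (v : V → L) (p : MvPolynomial (Fin (n + 1)) P),
      eval₂Hom φ v (rename Sum.inl p) = eval (v ∘ Sum.inl) (map φ p) := fun φ v p => by
    rw [eval₂Hom_rename, eval_map]; rfl
  have hzero : ∀ {L : Type u} [CommRing L] (φ : P →+* L) (v : V → L),
      I ≤ RingHom.ker (eval₂Hom φ v) ↔
        (∀ i, eval (v ∘ Sum.inl) (form (φ ∘ c) i) = 0) ∧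
          ∀ j, ∑ i, v (Sum.inr i) * eval (v ∘ Sum.inl) (pderiv j (form (φ ∘ c) i)) = 0 := fun φ v => by
    rw [Ideal.span_le, Set.union_subset_iff, Set.range_subset_iff, Set.range_subset_iff]
    simp only [SetLike.mem_coe, RingHom.mem_ker, Fp, Gp, hev, form_map, map_sum, map_mul, eval₂Hom_X',
      ← pderiv_map]
  have hK : NoBad (d := d ∘ ι) (algebraMap P K ∘ c) := by
    refine noBad_of_algebraicIndependent (k := k) _ ?_ (fun i => hd _)
    exact ((algebraicIndependent_X (Cf n d) k).comp _ (emb_injective hι)).map'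
      (f := IsScalarTower.toAlgHom k P K) (by
        show Function.Injective (algebraMap P K)
        rw [IsScalarTower.algebraMap_eq P Q K]
        exact (algebraMap Q K).injective.comp (IsFractionRing.injective P Q))
  have key : ∀ (j : Fin (n + 1)) (i : Fin s), ∃ g : P, g ≠ 0 ∧ ∃ M : ℕ,
      C g * (X (Sum.inl j) * X (Sum.inr i)) ^ M ∈ I := by
    intro j i
    have h1 : (X (Sum.inl j) * X (Sum.inr i) : MvPolynomial V Q) ∈
        (I.map (algebraMap (MvPolynomial V P) (MvPolynomial V Q))).radical := by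
      rw [← vanishingIdeal_zeroLocus_eq_radical (K := K)]
      intro v hv
      have hle : I ≤ RingHom.ker (eval₂Hom (algebraMap P K) v) := by
        intro p hp
        have h2 := hv _ (Ideal.mem_map_of_mem _ hp)
        rw [MvPolynomial.algebraMap_def, aeval_map_algebraMap] at h2
        exact h2
      obtain ⟨hf, hg⟩ := (hzero _ v).1 hle
      rcases hK (v ∘ Sum.inl) (v ∘ Sum.inr) hf hg with h3 | h3
      · simp [show v (Sum.inl j) = 0 from congrFun h3 j]
      · simp [show v (Sum.inr i) = 0 from congrFun h3 i]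
    obtain ⟨M, hM⟩ := h1
    have h2 : algebraMap (MvPolynomial V P) (MvPolynomial V Q) ((X (Sum.inl j) * X (Sum.inr i)) ^ M) ∈
        I.map (algebraMap (MvPolynomial V P) (MvPolynomial V Q)) := by
      rw [map_pow, map_mul, MvPolynomial.algebraMap_def, map_X, map_X]
      exact hM
    obtain ⟨_, ⟨g, hg, rfl⟩, hgI⟩ := (IsLocalization.algebraMap_mem_map_algebraMap_iff
      ((nonZeroDivisors P).map (C (σ := V))) (MvPolynomial V Q) I _).1 h2
    exact ⟨g, nonZeroDivisors.ne_zero hg, M, hgI⟩
  choose g hg M hM using key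
  refine ⟨∏ j, ∏ i, g j i, Finset.prod_ne_zero_iff.2 fun j _ => Finset.prod_ne_zero_iff.2 fun i _ => hg j i,
    fun L _ φ hφ x l hf hl => ?_⟩
  rw [map_prod, Finset.prod_ne_zero_iff] at hφ
  have hle : I ≤ RingHom.ker (eval₂Hom φ (Sum.elim x l)) := (hzero φ _).2 ⟨hf, hl⟩
  have hzero' : ∀ j i, x j * l i = 0 := fun j i => by
    have h := hφ j (Finset.mem_univ _)
    rw [map_prod, Finset.prod_ne_zero_iff] at h
    have h2 := hle (hM j i)
    rw [RingHom.mem_ker, map_mul, eval₂Hom_C, map_pow, map_mul, eval₂Hom_X', eval₂Hom_X'] at h2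
    exact eq_zero_of_pow_eq_zero ((mul_eq_zero.1 h2).resolve_left (h i (Finset.mem_univ _)))
  by_cases hx : x = 0
  · exact .inl hx
  · obtain ⟨j, hj⟩ := Function.ne_iff.1 hx
    exact .inr (funext fun i => (mul_eq_zero.1 (hzero' j i)).resolve_left hj)

/-- Good coefficients exist over an infinite field. -/
theorem exists_good (n : ℕ) (k : Type u) [Field k] [Infinite k] (d : Fin r → ℕ) (hd : ∀ i, 0 < d i) :
    ∃ c : Cf n d → k, ∀ (L : Type u) [Field L] [Algebra k L],
      NoBad (fun t => algebraMap k L (c t)) ∧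
      ∀ i, NoBad (d := d ∘ ![i]) (fun t => algebraMap k L (c (emb ![i] t))) := by
  obtain ⟨g, hg, hgood⟩ := exists_ne_zero_noBad (n := n) k hd id Function.injective_id
  have h1 := fun i => exists_ne_zero_noBad (n := n) k hd ![i] (Function.injective_of_subsingleton _)
  choose g1 hg1 hgood1 using h1
  have hne : g * ∏ i, g1 i ≠ 0 := mul_ne_zero hg (Finset.prod_ne_zero_iff.2 fun i _ => hg1 i)
  obtain ⟨c, hc⟩ : ∃ c, eval c (g * ∏ i, g1 i) ≠ 0 := by
    by_contra! h
    exact hne (MvPolynomial.funext fun c => by rw [h c, map_zero])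
  rw [map_mul, map_prod, mul_ne_zero_iff, Finset.prod_ne_zero_iff] at hc
  refine ⟨c, fun L _ _ => ⟨?_, fun i => ?_⟩⟩
  · have h := hgood L ((algebraMap k L).comp (eval c)) (by simpa using hc.1)
    simpa [emb] using h
  · have h := hgood1 i L ((algebraMap k L).comp (eval c)) (by simpa using hc.2 i (Finset.mem_univ _))
    simpa [emb] using h

end Groth.CIntGen
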