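import Mathlib
import Groth.Agent.Calg4.RegularFlat
import Groth.Agent.Variety2.DimAffine

/-! A system of forms without singular zeros cuts out a regular scheme of the expected codimension. -/

set_option autoImplicit false
universe u

namespace Groth.CIntGen

open MvPolynomial IsLocalRing

variable {k : Type u} [Field k] {n r : ℕ} (f : Fin r → MvPolynomial (Fin (n + 1)) k)

/-- No singular zero over any extension field. -/
def Good : Prop :=
  ∀ (L : Type u) [Field L] [Algebra k L] (x : Fin (n + 1) → L) (l : Fin r → L),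
    (∀ i, aeval x (f i) = 0) → (∀ j, ∑ i, l i * aeval x (pderiv j (f i)) = 0) → x = 0 ∨ l = 0

variable {f}

theorem pderiv_mem_of_mul_mem_sq {P : Ideal (MvPolynomial (Fin (n + 1)) k)} [P.IsPrime]
    {t y : MvPolynomial (Fin (n + 1)) k} (ht : t ∉ P) (hy : y ∈ P) (h : t * y ∈ P ^ 2) (j : Fin (n + 1)) :
    pderiv j y ∈ P := by
  have key : ∀ z ∈ P ^ 2, pderiv j z ∈ P := by
    intro z hz
    rw [pow_two] at hz
    refine Submodule.mul_induction_on hz (fun a ha b hb => ?_) (fun a b ha hb => ?_)
    · rw [pderiv_mul]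
      exact add_mem (Ideal.mul_mem_left _ _ hb) (Ideal.mul_mem_right _ _ ha)
    · rw [map_add]
      exact add_mem ha hb
  have h1 := key _ h
  rw [pderiv_mul] at h1
  have h2 : t * pderiv j y ∈ P := (Submodule.add_mem_iff_right P (Ideal.mul_mem_left _ _ hy)).1 h1
  exact (Ideal.IsPrime.mem_or_mem ‹_› h2).resolve_left ht

theorem indep (hG : Good f) (P : Ideal (MvPolynomial (Fin (n + 1)) k)) [P.IsPrime] (hf : ∀ i, f i ∈ P)
    (hX : ∃ j, X j ∉ P) (c : Fin r → Localization.AtPrime P)
    (hc : ∑ i, c i * algebraMap _ (Localization.AtPrime P) (f i) ∈ maximalIdeal (Localization.AtPrime P) ^ 2)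
    (i : Fin r) : c i ∈ maximalIdeal (Localization.AtPrime P) := by
  classical
  let S := MvPolynomial (Fin (n + 1)) k
  obtain ⟨s, hs⟩ := IsLocalization.exist_integer_multiples_of_finite P.primeCompl c
  choose a ha using hs
  have hsum : algebraMap S (Localization.AtPrime P) (∑ i, a i * f i) ∈
      maximalIdeal (Localization.AtPrime P) ^ 2 := by
    have : algebraMap S (Localization.AtPrime P) (∑ i, a i * f i) =
        algebraMap S (Localization.AtPrime P) s * ∑ i, c i * algebraMap _ (Localization.AtPrime P) (f i) := by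
      simp only [map_sum, map_mul, Finset.mul_sum, ha, Algebra.smul_def, mul_assoc, S]
    rw [this]
    exact Ideal.mul_mem_left _ _ hc
  rw [← Localization.AtPrime.map_eq_maximalIdeal, ← Ideal.map_pow] at hsum
  obtain ⟨t, ht, hty⟩ := (IsLocalization.algebraMap_mem_map_algebraMap_iff P.primeCompl
    (Localization.AtPrime P) (P ^ 2) _).1 hsum
  have hyP : ∑ i, a i * f i ∈ P := sum_mem fun i _ => Ideal.mul_mem_left _ _ (hf i)
  let L := FractionRing (S ⧸ P)
  let π : S →ₐ[k] L := (IsScalarTower.toAlgHom k (S ⧸ P) L).comp (Ideal.Quotient.mkₐ k P)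
  have hπ : ∀ p, π p = 0 ↔ p ∈ P := fun p => by
    show algebraMap (S ⧸ P) L (Ideal.Quotient.mk P p) = 0 ↔ _
    rw [map_eq_zero_iff _ (IsFractionRing.injective (S ⧸ P) L), Ideal.Quotient.eq_zero_iff_mem]
  have hev : ∀ p, aeval (fun j => π (X j)) p = π p := fun p =>
    AlgHom.congr_fun (MvPolynomial.algHom_ext fun j => by simp : aeval (fun j => π (X j)) = π) p
  have hd : ∀ j, ∑ i, π (a i) * aeval (fun j => π (X j)) (pderiv j (f i)) = 0 := fun j => by
    have h := (hπ _).2 (pderiv_mem_of_mul_mem_sq ht hyP hty j)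
    simp only [map_sum, pderiv_mul, map_add, map_mul, (hπ _).2 (hf _), mul_zero, zero_add] at h
    simpa only [hev] using h
  rcases hG L (fun j => π (X j)) (fun i => π (a i)) (fun i => by rw [hev]; exact (hπ _).2 (hf i)) hd with h | h
  · obtain ⟨j, hj⟩ := hX
    exact absurd ((hπ _).1 (congrFun h j)) hj
  · have hai : algebraMap S (Localization.AtPrime P) (a i) ∈ maximalIdeal (Localization.AtPrime P) :=
      (IsLocalization.AtPrime.to_map_mem_maximal_iff _ P _).2 ((hπ _).1 (congrFun h i))
    rw [ha, Algebra.smul_def] at hai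
    refine ((maximalIdeal.isMaximal _).isPrime.mem_or_mem hai).resolve_left fun h' => ?_
    exact s.2 ((IsLocalization.AtPrime.to_map_mem_maximal_iff _ P _).1 h')

theorem atPrime (hG : Good f) (Q : Ideal (MvPolynomial (Fin (n + 1)) k ⧸ Ideal.span (Set.range f))) [Q.IsPrime]
    (hQ : ∃ j, Ideal.Quotient.mk (Ideal.span (Set.range f)) (X j) ∉ Q) :
    IsRegularLocalRing (Localization.AtPrime Q) ∧
      ringKrullDim (Localization.AtPrime Q) + r =
        ((Q.comap (Ideal.Quotient.mk (Ideal.span (Set.range f)))).height : WithBot ℕ∞) := by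
  classical
  let S := MvPolynomial (Fin (n + 1)) k
  let J := Ideal.span (Set.range f)
  let P := Q.comap (Ideal.Quotient.mk J)
  haveI : P.IsPrime := Ideal.comap_isPrime _ _
  let Sp := Localization.AtPrime P
  have hf : ∀ i, f i ∈ P := fun i => by
    show Ideal.Quotient.mk (Ideal.span (Set.range f)) (f i) ∈ Q
    rw [Ideal.Quotient.eq_zero_iff_mem.2 (Ideal.subset_span (Set.mem_range_self i))]
    exact zero_mem Q
  obtain ⟨j, hj⟩ := hQ
  obtain ⟨hreg, hseq⟩ := Groth.Calg4.isRegularLocalRing_quotient_of_indep r Sp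
    (fun i => algebraMap S Sp (f i)) (fun i => (IsLocalization.AtPrime.to_map_mem_maximal_iff _ P _).2 (hf i))
    (fun c hc i => indep hG P hf ⟨j, hj⟩ c hc i)
  have hspan : Ideal.span (Set.range fun i => algebraMap S Sp (f i)) = J.map (algebraMap S Sp) := by
    rw [Ideal.map_span, ← Set.range_comp]
    rfl
  have hM : Algebra.algebraMapSubmonoid (S ⧸ J) P.primeCompl = Q.primeCompl := by
    ext z
    constructor
    · rintro ⟨p, hp, rfl⟩
      exact hp
    · intro hz
      obtain ⟨p, rfl⟩ := Ideal.Quotient.mk_surjective z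
      exact ⟨p, hz, rfl⟩
  haveI : IsLocalization Q.primeCompl (Sp ⧸ J.map (algebraMap S Sp)) := hM ▸ inferInstance
  let e : (Sp ⧸ J.map (algebraMap S Sp)) ≃+* Localization.AtPrime Q :=
    (IsLocalization.algEquiv Q.primeCompl (Sp ⧸ J.map (algebraMap S Sp)) (Localization.AtPrime Q)).toRingEquiv
  constructor
  · haveI := hreg
    exact IsRegularLocalRing.of_ringEquiv (R := Sp ⧸ Ideal.span (Set.range fun i => algebraMap S Sp (f i))) (R' := Localization.AtPrime Q)
      ((Ideal.quotEquivOfEq hspan).trans e)
  · have h := ringKrullDim_add_length_eq_ringKrullDim_of_isRegular _ hseq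
    rw [List.length_ofFn, ringKrullDim_eq_of_ringEquiv ((Ideal.quotEquivOfEq
      ((Groth.Ega4Algebra1.ofList_ofFn _).trans hspan)).trans e)] at h
    rw [h, IsLocalization.AtPrime.ringKrullDim_eq_height P Sp]

theorem height_eq (hG : Good f) (h0 : ∀ i, constantCoeff (f i) = 0) (hr : r ≤ n + 1) :
    (Ideal.span (Set.range f)).height = r := by
  classical
  set J := Ideal.span (Set.range f) with hJ
  have hker : J ≤ RingHom.ker (constantCoeff (σ := Fin (n + 1)) (R := k)) :=
    Ideal.span_le.2 (Set.range_subset_iff.2 fun i => h0 i)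
  have hne : J ≠ ⊤ := fun h => by
    have := hker (h ▸ Submodule.mem_top : (1 : MvPolynomial (Fin (n + 1)) k) ∈ J)
    simp at this
  refine le_antisymm ((Ideal.height_le_spanFinrank J hne).trans ?_) ?_
  · exact_mod_cast (Submodule.spanFinrank_span_le_ncard_of_finite (Set.finite_range f)).trans
      ((by rw [← Set.image_univ]; exact (Set.ncard_image_le (Set.finite_univ)).trans (by simp)))
  · rw [Ideal.height_eq_inf_minimalPrimes]
    refine le_iInf₂ fun P hP => ?_
    haveI := hP.1.1
    by_cases hX : ∀ j, X j ∈ P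
    · have hle : RingHom.ker (constantCoeff (σ := Fin (n + 1)) (R := k)) ≤ P := by
        have key : ∀ p : MvPolynomial (Fin (n + 1)) k, p - C (constantCoeff p) ∈ P := by
          intro p
          induction p using MvPolynomial.induction_on with
          | C a => simp
          | add p q hp hq => rw [map_add, map_add, add_sub_add_comm]; exact add_mem hp hq
          | mul_X p j _ => simpa using Ideal.mul_mem_left _ p (hX j)
        intro p hp
        have := key p
        rwa [RingHom.mem_ker.1 hp, map_zero, sub_zero] at this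
      haveI hmax : (RingHom.ker (constantCoeff (σ := Fin (n + 1)) (R := k))).IsMaximal :=
        RingHom.ker_isMaximal_of_surjective _ fun a => ⟨C a, constantCoeff_C _ a⟩
      rw [← hmax.eq_of_le hP.1.1.ne_top hle, Groth.Variety2.Dim.height_isMaximal_mvPolynomial k (n + 1) _ hmax]
      exact_mod_cast hr
    · rw [not_forall] at hX
      rw [Ideal.minimalPrimes_eq_comap] at hP
      obtain ⟨Q, hQ, rfl⟩ := hP
      haveI := hQ.1.1
      obtain ⟨-, hdim⟩ := atPrime hG Q hX
      rw [IsLocalization.AtPrime.ringKrullDim_eq_height Q (Localization.AtPrime Q),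
        Ideal.height_eq_zero_iff.2 hQ] at hdim
      rw [WithBot.coe_zero, zero_add] at hdim
      exact le_of_eq (WithBot.coe_inj.1 hdim)

end Groth.CIntGen
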